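import Mathlib

/-!
Extremal form of Thompson's transfer lemma.
-/

set_option autoImplicit false

namespace CfsgLib.AltCentralizer

open MulAction

theorem one_ne_ofAdd : (1 : Multiplicative (ZMod 2)) ≠ Multiplicative.ofAdd 1 := by decide

theorem ofAdd_sq : (Multiplicative.ofAdd 1 : Multiplicative (ZMod 2)) ^ 2 = 1 := by decide

theorem two_values (y : Multiplicative (ZMod 2)) : y = 1 ∨ y = Multiplicative.ofAdd 1 := by
  revert y; decide

/-- If `G` has no normal subgroup of index `2`, every involution `x` has a conjugate in the kernel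
of a homomorphism of a Sylow 2-subgroup `P` to the group of order two, in such a way that a given
2-subgroup centralising `x` is carried into `P`. -/
theorem exists_extremal {G : Type*} [Group G] [Finite G] (P : Sylow 2 G)
    (h2 : ∀ M : Subgroup G, M.Normal → M.index ≠ 2) (φ : (P : Subgroup G) →* Multiplicative (ZMod 2))
    {x : G} (hx : x ^ 2 = 1) {R : Subgroup G} (hR : IsPGroup 2 R) (hRx : ∀ r ∈ R, Commute r x) :
    ∃ g : G, ∃ hu : g⁻¹ * x * g ∈ (P : Subgroup G), φ ⟨_, hu⟩ = 1 ∧
      ∀ r ∈ R, g⁻¹ * r * g ∈ (P : Subgroup G) := by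
  classical
  haveI : Fact (Nat.Prime 2) := ⟨Nat.prime_two⟩
  set Ω := G ⧸ (P : Subgroup G)
  set c : Multiplicative (ZMod 2) := Multiplicative.ofAdd 1 with hc
  -- change of representative
  have hval : ∀ (g g' : G) (h : g⁻¹ * x * g ∈ (P : Subgroup G)), g⁻¹ * g' ∈ (P : Subgroup G) →
      ∃ h' : g'⁻¹ * x * g' ∈ (P : Subgroup G), φ ⟨_, h'⟩ = φ ⟨_, h⟩ := by
    intro g g' h hp
    have e : g'⁻¹ * x * g' = (g⁻¹ * g')⁻¹ * (g⁻¹ * x * g) * (g⁻¹ * g') := by group
    have h' : g'⁻¹ * x * g' ∈ (P : Subgroup G) := e ▸ mul_mem (mul_mem (inv_mem hp) h) hp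
    refine ⟨h', ?_⟩
    rw [show (⟨_, h'⟩ : (P : Subgroup G)) = (⟨_, hp⟩)⁻¹ * ⟨_, h⟩ * ⟨_, hp⟩ from Subtype.ext e,
      map_mul, map_mul, map_inv, mul_comm, mul_inv_cancel_left]
  have hfix : ∀ q : Ω, x • q = q ↔ q.out⁻¹ * x * q.out ∈ (P : Subgroup G) := by
    intro q
    conv_lhs => rw [← QuotientGroup.out_eq' q, MulAction.Quotient.smul_mk, smul_eq_mul, eq_comm,
      QuotientGroup.eq]
    rw [mul_assoc]
  let F0 : Set Ω := {q | ∃ h : q.out⁻¹ * x * q.out ∈ (P : Subgroup G), φ ⟨_, h⟩ = 1}
  let F1 : Set Ω := {q | ∃ h : q.out⁻¹ * x * q.out ∈ (P : Subgroup G), φ ⟨_, h⟩ = c}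
  have hmodx : IsPGroup 2 (Subgroup.zpowers x) := fun g => ⟨1, by
    obtain ⟨i, hi⟩ := Subgroup.mem_zpowers_iff.1 g.2
    refine Subtype.ext ?_
    rw [Subgroup.coe_pow, ← hi, pow_one, ← zpow_natCast, ← zpow_mul, mul_comm, zpow_mul,
      zpow_natCast, hx, one_zpow]; rfl⟩
  have hsum : Nat.card Ω % 2 = (F0.ncard + F1.ncard) % 2 := by
    have hdis : Disjoint F0 F1 := by
      rw [Set.disjoint_left]
      rintro q ⟨h, e0⟩ ⟨h', e1⟩
      have e : (1 : Multiplicative (ZMod 2)) = c := e0.symm.trans e1
      rw [hc] at e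
      exact one_ne_ofAdd e
    rw [← Set.ncard_union_eq hdis]
    have hset : MulAction.fixedPoints (Subgroup.zpowers x) Ω = F0 ∪ F1 := by
      ext q
      rw [MulAction.mem_fixedPoints]
      refine ⟨fun h => ?_, fun h g => ?_⟩
      · have h' := (hfix q).1 (h ⟨x, Subgroup.mem_zpowers x⟩)
        rcases two_values (φ ⟨_, h'⟩) with e | e
        exacts [Or.inl ⟨h', e⟩, Or.inr ⟨h', e⟩]
      · have h' : x • q = q := (hfix q).2 (h.elim (fun e => e.1) fun e => e.1)
        exact (Subgroup.zpowers_le.2 (show x ∈ MulAction.stabilizer G q from h')) g.2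
    rw [← hset, ← Nat.card_coe_set_eq]
    exact hmodx.card_modEq_card_fixedPoints Ω
  have hodd : Nat.card Ω % 2 = 1 := Nat.two_dvd_ne_zero.1 P.not_dvd_index
  -- the transfer of `x` counts `F1`
  have hF1 : F1.ncard % 2 = 0 := by
    letI : Fintype (Quotient (MulAction.orbitRel (Subgroup.zpowers x) Ω)) := Fintype.ofFinite _
    have hV : φ.transfer x = 1 := by
      by_contra hne
      refine h2 φ.transfer.ker inferInstance ?_
      rw [Subgroup.index_ker, show φ.transfer.range = ⊤ from ?_, Subgroup.card_top]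
      · simp
      rw [eq_top_iff]
      rintro y -
      rcases two_values y with rfl | rfl
      exacts [one_mem _, ⟨x, (two_values _).resolve_left hne⟩]
    rw [MonoidHom.transfer_eq_prod_quotient_orbitRel_zpowers_quot] at hV
    set T : Quotient (MulAction.orbitRel (Subgroup.zpowers x) Ω) → Multiplicative (ZMod 2) :=
      fun q => φ ⟨q.out.out⁻¹ * x ^ Function.minimalPeriod (x • ·) q.out * q.out.out,
        QuotientGroup.out_conj_pow_minimalPeriod_mem (P : Subgroup G) x q.out⟩ with hT
    have hperiod : ∀ q : Ω, x • q ≠ q → x ^ Function.minimalPeriod (x • ·) q = 1 := by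
      intro q hq
      rw [Function.minimalPeriod_eq_prime (p := 2) (f := (x • ·)) ?_ hq, hx]
      show x • x • q = q
      rw [smul_smul, ← pow_two, hx, one_smul]
    have hT1 : ∀ q, T q = c → q.out ∈ F1 := by
      intro q hq
      have hfq : x • q.out = q.out := by
        by_contra hne
        rw [hT] at hq
        simp only [hperiod _ hne, mul_one, inv_mul_cancel] at hq
        rw [show φ ⟨(1 : G), _⟩ = 1 from map_one φ, hc] at hq
        exact one_ne_ofAdd hq
      refine ⟨(hfix _).1 hfq, ?_⟩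
      rw [← hq, hT]
      congr 1
      apply Subtype.ext
      simp only [show Function.minimalPeriod (x • ·) q.out = 1 from
        Function.minimalPeriod_eq_one_iff_isFixedPt.2 hfq, pow_one]
    have hbij : (Finset.univ.filter fun q => T q = c).card = F1.ncard := by
      rw [← Set.ncard_coe_finset]
      refine (Set.ncard_congr (fun q _ => q.out) (fun q hq => ?_) (fun q q' _ _ e => Quotient.out_inj.1 e)
        fun w hw => ?_)
      · exact hT1 q (by simpa using hq)
      · have hwf : x • w = w := (hfix w).2 hw.1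
        have ho : (Quotient.mk'' w : Quotient (MulAction.orbitRel (Subgroup.zpowers x) Ω)).out = w := by
          have h : (Quotient.mk'' w : Quotient (MulAction.orbitRel (Subgroup.zpowers x) Ω)).out ∈
              MulAction.orbit (Subgroup.zpowers x) w :=
            MulAction.orbitRel_apply.1 (Quotient.exact' (Quotient.out_eq' _))
          obtain ⟨g, hg⟩ := h
          rw [← hg]
          exact (Subgroup.zpowers_le.2 (show x ∈ MulAction.stabilizer G w from hwf)) g.2
        refine ⟨Quotient.mk'' w, ?_, ho⟩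
        obtain ⟨h, e⟩ := hw
        simp only [Finset.coe_filter, Finset.mem_univ, true_and, Set.mem_ofPred_eq]
        rw [← e, hT]
        simp only [ho]
        congr 1
        apply Subtype.ext
        simp only [show Function.minimalPeriod (x • ·) w = 1 from
          Function.minimalPeriod_eq_one_iff_isFixedPt.2 hwf, pow_one]
    have hprod : ∏ q, T q = c ^ F1.ncard := by
      rw [← hbij, ← Finset.prod_const, Finset.prod_filter]
      refine Finset.prod_congr rfl fun q _ => ?_
      rcases two_values (T q) with e | e <;> rw [e]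
      · rw [if_neg one_ne_ofAdd]
      · rw [if_pos hc.symm]
    rw [hprod] at hV
    rcases Nat.mod_two_eq_zero_or_one F1.ncard with h | h
    · exact h
    rw [← Nat.div_add_mod F1.ncard 2, h, pow_succ, pow_mul, show c ^ 2 = 1 from ofAdd_sq, one_pow,
      one_mul] at hV
    exact (one_ne_ofAdd hV.symm).elim
  -- a fixed point of `R` on `F0`
  letI : MulAction R F0 :=
    { smul := fun r q => ⟨(r : G) • (q : Ω), by
        obtain ⟨h, e⟩ := q.2
        have h1 : ((r : G) * (q : Ω).out)⁻¹ * x * ((r : G) * (q : Ω).out) =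
            (q : Ω).out⁻¹ * x * (q : Ω).out := by
          rw [mul_inv_rev, mul_assoc, mul_assoc, ← mul_assoc x, ← (hRx r r.2).eq]; group
        have hq : ((r : G) * (q : Ω).out)⁻¹ * ((r : G) • (q : Ω)).out ∈ (P : Subgroup G) := by
          rw [← QuotientGroup.eq, QuotientGroup.out_eq']
          conv_rhs => rw [← QuotientGroup.out_eq' (q : Ω), MulAction.Quotient.smul_mk, smul_eq_mul]
        obtain ⟨h', e'⟩ := hval _ _ (h1.symm ▸ h) hq
        exact ⟨h', e'.trans ((congrArg φ (Subtype.ext h1)).trans e)⟩⟩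
      mul_smul := fun r r' q => Subtype.ext (mul_smul (r : G) (r' : G) (q : Ω))
      one_smul := fun q => Subtype.ext (one_smul G (q : Ω)) }
  obtain ⟨q, hq⟩ := hR.nonempty_fixed_point_of_prime_not_dvd_card F0 (by
    rw [Nat.card_coe_set_eq]; omega)
  obtain ⟨h, e⟩ := q.2
  refine ⟨(q : Ω).out, h, e, fun r hr => ?_⟩
  have h' : r • (q : Ω) = q := congrArg Subtype.val (hq ⟨r, hr⟩)
  conv_lhs at h' => rw [← QuotientGroup.out_eq' (q : Ω), MulAction.Quotient.smul_mk, smul_eq_mul]
  conv_rhs at h' => rw [← QuotientGroup.out_eq' (q : Ω)]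
  have := QuotientGroup.eq.1 h'.symm
  simpa [mul_assoc] using this

end CfsgLib.AltCentralizer
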